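import Groth.Agent.ThickRingLib.Basic
import Groth.Agent.HenselLib.NewtonSystem
import Mathlib.RingTheory.Kaehler.Polynomial
import Mathlib.RingTheory.Kaehler.TensorProduct
import Mathlib.RingTheory.Unramified.Basic
import Mathlib.RingTheory.Etale.Basic

/-! Square systems attached to algebras that are étale away from an element. -/

set_option autoImplicit false
set_option linter.style.haveILetI false
set_option maxHeartbeats 1600000
universe u

open MvPolynomial TensorProduct

namespace EtOutsideLib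

/-- `J` is cut out, up to powers of `a` and modulo `J * J`, by a square system with scalar Jacobian. -/
def HasData {R : Type u} [CommRing R] {n : ℕ} (J : Ideal (MvPolynomial (Fin n) R)) (a : R) : Prop :=
  ∃ (k l : ℕ) (g : Fin n → MvPolynomial (Fin n) R), (∀ i, g i ∈ J) ∧
    (∀ i j, pderiv j (g i) - (if i = j then C a ^ k else 0) ∈ J) ∧
    ∀ f ∈ J, C a ^ l * f ∈ Ideal.span (Set.range g) ⊔ J * J

theorem HasData.map {R R' : Type u} [CommRing R] [CommRing R'] (h : R →+* R') {n : ℕ}
    {J : Ideal (MvPolynomial (Fin n) R)} {a : R} (hd : HasData J a) :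
    HasData (J.map (MvPolynomial.map h)) (h a) := by
  obtain ⟨k, l, g, hg, hdg, hl⟩ := hd
  refine ⟨k, l, fun i => MvPolynomial.map h (g i), fun i => Ideal.mem_map_of_mem _ (hg i), fun i j => ?_, fun f hf => ?_⟩
  · have h1 := Ideal.mem_map_of_mem (MvPolynomial.map h) (hdg i j)
    rw [pderiv_map]
    split_ifs with hij
    · simpa [hij] using h1
    · simpa [hij] using h1
  · have h2 : Ideal.span {C (h a) ^ l} * J.map (MvPolynomial.map h) ≤
        Ideal.span (Set.range fun i => MvPolynomial.map h (g i)) ⊔ J.map (MvPolynomial.map h) * J.map (MvPolynomial.map h) := by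
      have h3 : Ideal.span {C a ^ l} * J ≤ Ideal.span (Set.range g) ⊔ J * J :=
        Ideal.span_singleton_mul_le_iff.2 hl
      have h4 := Ideal.map_mono (f := MvPolynomial.map h) h3
      rw [Ideal.map_sup, Ideal.map_mul, Ideal.map_mul, Ideal.map_span, Ideal.map_span, Set.image_singleton,
        map_pow, map_C, ← Set.range_comp] at h4
      exact h4
    exact h2 (Ideal.mul_mem_mul (Ideal.mem_span_singleton_self _) hf)

/-- Taylor expansion to first order. -/
theorem taylor_sq {R A : Type u} [CommRing R] [CommRing A] [Algebra R A] {n : ℕ}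
    (φ φ' : MvPolynomial (Fin n) R →ₐ[R] A) (K : Ideal A) (h : ∀ s, φ' (X s) - φ (X s) ∈ K)
    (p : MvPolynomial (Fin n) R) :
    φ' p - φ p - ∑ t, φ (pderiv t p) * (φ' (X t) - φ (X t)) ∈ K * K := by
  classical
  induction p using MvPolynomial.induction_on with
  | C r => simp [algHom_C]
  | add p q hp hq =>
    convert add_mem hp hq using 1
    simp only [map_add, add_mul, Finset.sum_add_distrib]
    ring
  | mul_X p m hp =>
    have hsum : ∑ t, φ (pderiv t p) * (φ' (X t) - φ (X t)) ∈ K :=
      K.sum_mem fun t _ => K.mul_mem_left _ (h t)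
    have hd : φ' p - φ p ∈ K := by simpa using K.add_mem (Ideal.mul_le_left hp) hsum
    have hs : ∑ t, φ (pderiv t (p * X m)) * (φ' (X t) - φ (X t)) =
        (∑ t, φ (pderiv t p) * (φ' (X t) - φ (X t))) * φ (X m) + φ p * (φ' (X m) - φ (X m)) := by
      have : ∀ t ∈ Finset.univ, φ (pderiv t (p * X m)) * (φ' (X t) - φ (X t)) =
          φ (pderiv t p) * (φ' (X t) - φ (X t)) * φ (X m) +
            (if t = m then φ p * (φ' (X m) - φ (X m)) else 0) := by
        intro t _
        by_cases ht : t = m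
        · subst ht
          simp only [pderiv_mul, pderiv_X_self, map_add, map_mul, map_one, if_true]
          ring
        · simp only [pderiv_mul, pderiv_X_of_ne (Ne.symm ht), map_add, map_mul, map_zero, if_neg ht]
          ring
      rw [Finset.sum_congr rfl this, Finset.sum_add_distrib, ← Finset.sum_mul, Finset.sum_ite_eq' Finset.univ m, if_pos (Finset.mem_univ m)]
    convert add_mem (Ideal.mul_mem_right (φ (X m)) _ hp) (Ideal.mul_mem_mul hd (h m)) using 1
    rw [hs, map_mul, map_mul]
    ring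

theorem exists_square_system {R : Type u} [CommRing R] {n : ℕ} {B : Type u} [CommRing B] [Algebra R B]
    [Algebra (MvPolynomial (Fin n) R) B] [IsScalarTower R (MvPolynomial (Fin n) R) B]
    (hq : Function.Surjective (algebraMap (MvPolynomial (Fin n) R) B))
    (a : R) [Algebra.FormallyUnramified R (Localization.Away (algebraMap R B a))] :
    ∃ (k : ℕ) (g : Fin n → MvPolynomial (Fin n) R), (∀ i, g i ∈ RingHom.ker (algebraMap (MvPolynomial (Fin n) R) B)) ∧
      ∀ i j, pderiv j (g i) - (if i = j then C a ^ k else 0) ∈ RingHom.ker (algebraMap (MvPolynomial (Fin n) R) B) := by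
  classical
  let B' := Localization.Away (algebraMap R B a)
  let M := Submonoid.powers (algebraMap R B a)
  haveI : IsLocalizedModule M (KaehlerDifferential.map R R B B') := inferInstance
  have hz : ∀ ω : Ω[B⁄R], ∃ k : ℕ, algebraMap R B a ^ k • ω = 0 := fun ω => by
    have h0 : KaehlerDifferential.map R R B B' ω = 0 := Subsingleton.elim _ _
    obtain ⟨⟨_, k, rfl⟩, hk⟩ := (IsLocalizedModule.eq_zero_iff M (KaehlerDifferential.map R R B B')).1 h0
    exact ⟨k, hk⟩
  choose k₀ hk₀ using fun i : Fin n => hz (KaehlerDifferential.D R B (algebraMap (MvPolynomial (Fin n) R) B (X i)))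
  let k := Finset.univ.sup k₀
  have hk : ∀ i, algebraMap R B a ^ k • KaehlerDifferential.D R B (algebraMap (MvPolynomial (Fin n) R) B (X i)) = 0 := fun i => by
    obtain ⟨d, hd⟩ := Nat.exists_eq_add_of_le (Finset.le_sup (f := k₀) (Finset.mem_univ i))
    rw [show k = k₀ i + d from hd, pow_add, mul_comm, mul_smul, hk₀, smul_zero]
  have hex : ∀ i, ∃ g ∈ RingHom.ker (algebraMap (MvPolynomial (Fin n) R) B),
      (1 : B) ⊗ₜ[MvPolynomial (Fin n) R] KaehlerDifferential.D R (MvPolynomial (Fin n) R) g =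
        (algebraMap R B a ^ k) ⊗ₜ[MvPolynomial (Fin n) R] KaehlerDifferential.D R (MvPolynomial (Fin n) R) (X i) := fun i => by
    obtain ⟨c, hc⟩ := (KaehlerDifferential.exact_kerCotangentToTensor_mapBaseChange R (MvPolynomial (Fin n) R) B hq
      ((algebraMap R B a ^ k) ⊗ₜ KaehlerDifferential.D R (MvPolynomial (Fin n) R) (X i))).1 (by
        rw [KaehlerDifferential.mapBaseChange_tmul, KaehlerDifferential.map_D]
        exact hk i)
    obtain ⟨c, rfl⟩ := Ideal.toCotangent_surjective _ c
    exact ⟨c.1, c.2, hc⟩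
  choose g hg hgD using hex
  refine ⟨k, g, hg, fun i j => ?_⟩
  let L : B ⊗[MvPolynomial (Fin n) R] Ω[MvPolynomial (Fin n) R⁄R] →ₗ[B] B :=
    LinearMap.liftBaseChange B ((Algebra.linearMap (MvPolynomial (Fin n) R) B) ∘ₗ (Finsupp.lapply j) ∘ₗ
      (KaehlerDifferential.mvPolynomialBasis R (Fin n)).repr.toLinearMap)
  have hL : ∀ (b : B) p, L (b ⊗ₜ KaehlerDifferential.D R (MvPolynomial (Fin n) R) p) =
      b * algebraMap _ B (pderiv j p) := fun b p => by
    simp [L]
  have h1 := congrArg L (hgD i)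
  rw [hL, hL, one_mul] at h1
  rw [RingHom.mem_ker, map_sub, h1, pderiv_X]
  by_cases hij : i = j
  · subst hij
    rw [Pi.single_eq_same, if_pos rfl, map_one, mul_one, map_pow,
      show C a = algebraMap R (MvPolynomial (Fin n) R) a from rfl, ← IsScalarTower.algebraMap_apply, sub_self]
  · rw [Pi.single_eq_of_ne hij, if_neg hij, map_zero, mul_zero, sub_self]

theorem exists_pow_mul_mem {R : Type u} [CommRing R] {n : ℕ} {B : Type u} [CommRing B] [Algebra R B]
    [Algebra (MvPolynomial (Fin n) R) B] [IsScalarTower R (MvPolynomial (Fin n) R) B]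
    (hq : Function.Surjective (algebraMap (MvPolynomial (Fin n) R) B))
    (a : R) [Algebra.Etale R (Localization.Away (algebraMap R B a))] (k : ℕ) (g : Fin n → MvPolynomial (Fin n) R)
    (hg : ∀ i, g i ∈ RingHom.ker (algebraMap (MvPolynomial (Fin n) R) B))
    (hdg : ∀ i j, pderiv j (g i) - (if i = j then C a ^ k else 0) ∈ RingHom.ker (algebraMap (MvPolynomial (Fin n) R) B))
    (f : MvPolynomial (Fin n) R) (hf : f ∈ RingHom.ker (algebraMap (MvPolynomial (Fin n) R) B)) :
    ∃ l : ℕ, C a ^ l * f ∈ Ideal.span (Set.range g) ⊔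
      RingHom.ker (algebraMap (MvPolynomial (Fin n) R) B) * RingHom.ker (algebraMap (MvPolynomial (Fin n) R) B) := by
  classical
  let P := MvPolynomial (Fin n) R
  let J := RingHom.ker (algebraMap P B)
  let G := Ideal.span (Set.range g)
  have hGJ : G ≤ J := Ideal.span_le.2 fun _ ⟨i, hi⟩ => hi ▸ hg i
  let B' := Localization.Away (algebraMap R B a)
  let det := (Matrix.of fun i j => pderiv i (g j)).det
  have hdet : algebraMap P B det = algebraMap R B a ^ (k * n) := by
    rw [RingHom.map_det]
    have : (algebraMap P B).mapMatrix (Matrix.of fun i j => pderiv i (g j)) = Matrix.diagonal (fun _ => algebraMap R B a ^ k) := by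
      ext i j
      have h1 := hdg j i
      rw [RingHom.mem_ker, map_sub, sub_eq_zero] at h1
      simp only [RingHom.mapMatrix_apply, Matrix.map_apply, Matrix.of_apply, Matrix.diagonal_apply]
      rw [show algebraMap P B (pderiv i (g j)) = _ from h1]
      by_cases hij : i = j
      · subst hij; simp [map_pow, show C a = algebraMap R P a from rfl, P, ← IsScalarTower.algebraMap_apply]
      · simp [hij, Ne.symm hij]
    rw [this, Matrix.det_diagonal, Finset.prod_const, Finset.card_univ, Fintype.card_fin, ← pow_mul]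
  let T := Localization.Away (Ideal.Quotient.mk G det)
  haveI : Algebra.Etale R T := HenselLib.etale_away_jacobian g
  let T₂ := Localization.Away (algebraMap R T a)
  haveI : Algebra.Etale T T₂ := Algebra.Etale.of_isLocalizationAway (algebraMap R T a)
  haveI : Algebra.Etale R T₂ := Algebra.Etale.comp R T T₂
  let π₀ : P ⧸ G →ₐ[R] B' := Ideal.Quotient.liftₐ G
    ((IsScalarTower.toAlgHom R B B').comp (IsScalarTower.toAlgHom R P B)) fun x hx => by
      show algebraMap B B' (algebraMap P B x) = 0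
      rw [RingHom.mem_ker.1 (hGJ hx), map_zero]
  have hu : IsUnit (algebraMap R B' a) := by
    rw [IsScalarTower.algebraMap_apply R B B']
    exact IsLocalization.Away.algebraMap_isUnit (S := B') (algebraMap R B a)
  let π₁ : T →ₐ[R] B' := IsLocalization.Away.liftAlgHom (Ideal.Quotient.mk G det) (f := π₀) (by
    show IsUnit (algebraMap B B' (algebraMap P B det))
    rw [hdet, map_pow, ← IsScalarTower.algebraMap_apply R B B']
    exact hu.pow _)
  let π₂ : T₂ →ₐ[R] B' := IsLocalization.Away.liftAlgHom (algebraMap R T a) (f := π₁) (by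
    rw [π₁.commutes]; exact hu)
  let ι : P →+* T₂ := ((algebraMap T T₂).comp (algebraMap (P ⧸ G) T)).comp (Ideal.Quotient.mk G)
  have hι : ∀ p, π₂ (ι p) = algebraMap B B' (algebraMap P B p) := fun p => by
    simp only [ι, π₂, π₁, RingHom.comp_apply, IsLocalization.Away.liftAlgHom, IsLocalization.coe_liftAlgHom,
      IsLocalization.lift_eq]
    erw [IsLocalization.lift_eq, IsLocalization.lift_eq]
    rfl
  have hιa : ι (C a) = algebraMap R T₂ a := by
    show algebraMap T T₂ (algebraMap (P ⧸ G) T (algebraMap R (P ⧸ G) a)) = _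
    rw [← IsScalarTower.algebraMap_apply R (P ⧸ G) T, ← IsScalarTower.algebraMap_apply R T T₂]
  have hau : IsUnit (algebraMap R T₂ a) := by
    rw [IsScalarTower.algebraMap_apply R T T₂]
    exact IsLocalization.Away.algebraMap_isUnit (S := T₂) (algebraMap R T a)
  letI : Algebra T₂ B' := π₂.toRingHom.toAlgebra
  haveI : IsScalarTower R T₂ B' := IsScalarTower.of_algebraMap_eq fun r => (π₂.commutes r).symm
  have hsur : Function.Surjective (algebraMap T₂ B') := fun z => by
    obtain ⟨m, b, hb⟩ := IsLocalization.Away.surj (algebraMap R B a) z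
    obtain ⟨p, rfl⟩ := hq b
    obtain ⟨v, hv⟩ := (hau.pow m).exists_right_inv
    refine ⟨ι p * v, ?_⟩
    show π₂ (ι p * v) = z
    have h2 : algebraMap R B' a ^ m * π₂ v = 1 := by rw [← π₂.commutes, ← map_pow, ← map_mul, hv, map_one]
    rw [map_mul, hι, ← hb, ← IsScalarTower.algebraMap_apply R B B', mul_assoc, h2, mul_one]
  haveI : Algebra.FormallyEtale T₂ B' := Algebra.FormallyEtale.of_restrictScalars (R := R)
  have hidem := (Algebra.FormallyEtale.iff_of_surjective hsur).1 inferInstance
  have hker : RingHom.ker (algebraMap T₂ B') = J.map ι := by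
    refine le_antisymm (fun z hz => ?_) (Ideal.map_le_iff_le_comap.2 fun p hp => ?_)
    · obtain ⟨i₂, w, hw⟩ := IsLocalization.Away.surj (algebraMap R T a) z
      obtain ⟨i₁, x, hx⟩ := IsLocalization.Away.surj (Ideal.Quotient.mk G det) w
      obtain ⟨p, rfl⟩ := Ideal.Quotient.mk_surjective x
      have hu1 : IsUnit (algebraMap T T₂ (algebraMap (P ⧸ G) T (Ideal.Quotient.mk G det))) :=
        (IsLocalization.Away.algebraMap_isUnit (S := T) (Ideal.Quotient.mk G det)).map _
      have h3 : z * (algebraMap T T₂ (algebraMap R T a) ^ i₂ *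
          algebraMap T T₂ (algebraMap (P ⧸ G) T (Ideal.Quotient.mk G det)) ^ i₁) = ι p := by
        show _ = algebraMap T T₂ (algebraMap (P ⧸ G) T (Ideal.Quotient.mk G p))
        rw [← mul_assoc, hw, ← map_pow, ← map_mul, hx]
      have h4 : π₂ (ι p) = 0 := by rw [← h3, map_mul, show π₂ z = 0 from hz, zero_mul]
      rw [hι] at h4
      obtain ⟨⟨_, m, rfl⟩, hm⟩ := (IsLocalization.map_eq_zero_iff (Submonoid.powers (algebraMap R B a)) B' _).1 h4
      have h5 : C a ^ m * p ∈ J := by
        rw [RingHom.mem_ker, map_mul, map_pow, show C a = algebraMap R P a from rfl, ← IsScalarTower.algebraMap_apply]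
        exact hm
      have h6 := Ideal.mem_map_of_mem ι h5
      rw [map_mul, map_pow, hιa, ← h3] at h6
      refine (Ideal.mul_unit_mem_iff_mem _ (((IsLocalization.Away.algebraMap_isUnit (S := T₂) (algebraMap R T a)).pow i₂).mul (hu1.pow i₁))).1 ?_
      exact (Ideal.unit_mul_mem_iff_mem _ (hau.pow m)).1 h6
    · show π₂ (ι p) = 0
      rw [hι, RingHom.mem_ker.1 hp, map_zero]
  have hfm : ι f ∈ (J * J).map ι := by
    rw [Ideal.map_mul, ← hker, hidem.eq, hker]
    exact Ideal.mem_map_of_mem _ hf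
  rw [show ι = ((algebraMap T T₂).comp (algebraMap (P ⧸ G) T)).comp (Ideal.Quotient.mk G) from rfl, ← Ideal.map_map,
    ← Ideal.map_map] at hfm
  obtain ⟨⟨⟨w, hw⟩, ⟨_, m₂, rfl⟩⟩, hw2⟩ :=
    (IsLocalization.mem_map_algebraMap_iff (Submonoid.powers (algebraMap R T a)) T₂).1 hfm
  simp only [RingHom.comp_apply, ← map_mul] at hw2
  obtain ⟨⟨_, m₃, rfl⟩, hw3⟩ := (IsLocalization.eq_iff_exists (Submonoid.powers (algebraMap R T a)) T₂).1 hw2
  dsimp only at hw3
  have h7 : algebraMap (P ⧸ G) T (Ideal.Quotient.mk G (C a ^ (m₃ + m₂) * f)) ∈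
      ((J * J).map (Ideal.Quotient.mk G)).map (algebraMap (P ⧸ G) T) := by
    rw [map_mul, map_mul, map_pow, map_pow, show Ideal.Quotient.mk G (C a) = algebraMap R (P ⧸ G) a from rfl,
      ← IsScalarTower.algebraMap_apply R (P ⧸ G) T, pow_add, mul_assoc, mul_comm (algebraMap R T a ^ m₂), hw3]
    exact Ideal.mul_mem_left _ _ hw
  obtain ⟨⟨⟨x, hx⟩, ⟨_, i₁, rfl⟩⟩, hx2⟩ :=
    (IsLocalization.mem_map_algebraMap_iff (Submonoid.powers (Ideal.Quotient.mk G det)) T).1 h7
  rw [← map_mul] at hx2
  obtain ⟨⟨_, i₂, rfl⟩, hx3⟩ := (IsLocalization.eq_iff_exists (Submonoid.powers (Ideal.Quotient.mk G det)) T).1 hx2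
  dsimp only at hx3
  obtain ⟨j, hj, rfl⟩ := (Ideal.mem_map_iff_of_surjective _ Ideal.Quotient.mk_surjective).1 hx
  have hx4 : Ideal.Quotient.mk G (det ^ i₂ * (C a ^ (m₃ + m₂) * f * det ^ i₁)) = Ideal.Quotient.mk G (det ^ i₂ * j) := by
    simp only [map_mul, map_pow] at hx3 ⊢
    exact hx3
  replace hx3 := Ideal.Quotient.eq.1 hx4
  have h8 : det ^ i₂ * (C a ^ (m₃ + m₂) * f * det ^ i₁) ∈ G ⊔ J * J := by
    have := add_mem (Ideal.mem_sup_left (T := J * J) hx3) (Ideal.mem_sup_right (S := G) (Ideal.mul_mem_left _ (det ^ i₂) hj))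
    simpa using this
  refine ⟨k * n * (i₁ + i₂) + (m₃ + m₂), ?_⟩
  have h9 : C a ^ (k * n * (i₁ + i₂)) - det ^ (i₁ + i₂) ∈ J := by
    rw [RingHom.mem_ker, map_sub, map_pow, map_pow, hdet, ← pow_mul, show C a = algebraMap R P a from rfl,
      ← IsScalarTower.algebraMap_apply, sub_self]
  have h10 := Ideal.mem_sup_right (S := G) (Ideal.mul_mem_mul h9 (J.mul_mem_left (C a ^ (m₃ + m₂)) hf))
  convert add_mem h8 h10 using 1
  ring

/-- An algebra étale away from `a` has data. -/
theorem hasData_of_etale {R : Type u} [CommRing R] [IsNoetherianRing R] {n : ℕ} {B : Type u} [CommRing B] [Algebra R B]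
    (q : MvPolynomial (Fin n) R →ₐ[R] B) (hq : Function.Surjective q)
    (a : R) [Algebra.Etale R (Localization.Away (algebraMap R B a))] : HasData (RingHom.ker q.toRingHom) a := by
  classical
  letI : Algebra (MvPolynomial (Fin n) R) B := q.toRingHom.toAlgebra
  haveI : IsScalarTower R (MvPolynomial (Fin n) R) B := IsScalarTower.of_algebraMap_eq fun r => (q.commutes r).symm
  obtain ⟨k, g, hg, hdg⟩ := exists_square_system (B := B) hq a
  obtain ⟨s, hs⟩ := IsNoetherian.noetherian (RingHom.ker q.toRingHom)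
  choose l hl using fun f : s => exists_pow_mul_mem (B := B) hq a k g hg hdg f.1 (hs ▸ Ideal.subset_span f.2)
  refine ⟨k, Finset.univ.sup l, g, hg, hdg, ?_⟩
  refine Ideal.span_singleton_mul_le_iff.1 ?_
  rw [← hs, Ideal.span_mul_span', Ideal.span_le]
  rintro _ ⟨x, hx, y, hy, rfl⟩
  obtain ⟨d, hd⟩ := Nat.exists_eq_add_of_le (Finset.le_sup (f := l) (Finset.mem_univ ⟨y, hy⟩))
  rw [Set.mem_singleton_iff] at hx
  subst hx
  show C a ^ Finset.univ.sup l * y ∈ _
  rw [show Finset.univ.sup l = l ⟨y, hy⟩ + d from hd, pow_add, mul_comm (C a ^ l ⟨y, hy⟩), mul_assoc, hs]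
  exact Ideal.mul_mem_left _ _ (hl ⟨y, hy⟩)

end EtOutsideLib
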