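import Groth.Agent.EtOutsideLib.Uniform
import Groth.Agent.PairHensNoethLib.Basic
import Mathlib.RingTheory.AdicCompletion.Noetherian
import Mathlib.RingTheory.FiniteType

/-! Maps into henselizations from maps of completions. -/

set_option autoImplicit false
set_option linter.style.haveILetI false
set_option maxHeartbeats 1600000
universe u

open MvPolynomial

namespace EtOutsideLib

theorem existsUnique_lift (A : Type u) [CommRing A] [IsNoetherianRing A] (I : Ideal A) (B : Type u) [CommRing B]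
    [Algebra A B] [Algebra.FiniteType A B] (hB : ∀ a ∈ I, Algebra.Etale A (Localization.Away (algebraMap A B a)))
    (C : Type u) [CommRing C] [Algebra A C] [IsNoetherianRing C] (Ch : Type u) [CommRing Ch] [Algebra C Ch] [Algebra A Ch]
    [IsScalarTower A C Ch] (hCh : Hens2.IsPairHenselization C (I.map (algebraMap A C)) Ch)
    (φ : (AdicCompletion (I.map (algebraMap A B)) B) →ₐ[A] (AdicCompletion (I.map (algebraMap A C)) C)) :
    ∃! ψ : B →ₐ[A] Ch, ∀ (n : ℕ) (b : B), ∃ c : C, ψ b - algebraMap C Ch c ∈ (I.map (algebraMap A Ch)) ^ n ∧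
      AdicCompletion.eval (I.map (algebraMap A C)) C n (φ (AdicCompletion.of (I.map (algebraMap A B)) B b)) =
        Submodule.Quotient.mk c := by
  classical
  let K := I.map (algebraMap A C)
  let KH := I.map (algebraMap A Ch)
  have hKH : K.map (algebraMap C Ch) = KH := by rw [Ideal.map_map, ← IsScalarTower.algebraMap_eq]
  haveI : IsNoetherianRing Ch := PairHensNoethLib.isNoetherianRing_henselization hCh
  haveI hhens : HenselianRing Ch KH := hKH ▸ hCh.1
  let w : B → AdicCompletion K C := fun b => φ (AdicCompletion.of (I.map (algebraMap A B)) B b)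
  let Ec : ∀ c : ℕ, B →ₐ[A] C ⧸ K ^ c := fun c =>
    (((AdicCompletion.evalₐ K c).restrictScalars A).comp φ).comp (IsScalarTower.toAlgHom A B _)
  have hev : ∀ (c : ℕ) (b : B) (z : C), AdicCompletion.eval K C c (w b) = Submodule.Quotient.mk z ↔
      Ec c b = Ideal.Quotient.mk (K ^ c) z := fun c b z => by
    show _ ↔ AdicCompletion.evalₐ K c (w b) = _
    constructor
    · intro h
      rw [← AdicCompletion.factor_eval_eq_evalₐ K (w b) (le_of_eq (Ideal.mul_top _)), h]
      rfl
    · intro h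
      rw [← AdicCompletion.factor_evalₐ_eq_eval K (w b) (le_of_eq (Ideal.mul_top _).symm), h]
      rfl
  obtain ⟨n, q, hq⟩ := Algebra.FiniteType.iff_quotient_mvPolynomial''.1 (inferInstance : Algebra.FiniteType A B)
  have hex : ∀ c i, ∃ z : C, AdicCompletion.eval K C c (w (q (X i))) = Submodule.Quotient.mk z := fun c i =>
    ⟨_, (Submodule.Quotient.mk_surjective _ _).choose_spec.symm⟩
  choose z hz using hex
  let y : ℕ → Fin n → Ch := fun c i => algebraMap C Ch (z c i)
  have hEq : ∀ c (f : MvPolynomial (Fin n) A), Ec c (q f) = Ideal.Quotient.mk (K ^ c) (aeval (z c) f) := fun c f => by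
    have : (Ec c).comp q = (Ideal.Quotient.mkₐ A (K ^ c)).comp (aeval (z c)) := MvPolynomial.algHom_ext fun i => by
      simp only [AlgHom.comp_apply, aeval_X]
      exact (hev c _ _).1 (hz c i)
    exact DFunLike.congr_fun this f
  let h := algebraMap A Ch
  let J := (RingHom.ker q.toRingHom).map (MvPolynomial.map h)
  have hcomm : ∀ (x : Fin n → Ch) (f : MvPolynomial (Fin n) A), aeval x (MvPolynomial.map h f) = aeval x f := fun x f => by
    rw [MvPolynomial.aeval_map_algebraMap]
  have hycz : ∀ c (f : MvPolynomial (Fin n) A), aeval (y c) f = algebraMap C Ch (aeval (z c) f) := fun c f => by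
    show aeval (algebraMap C Ch ∘ z c) f = _
    rw [MvPolynomial.aeval_algebraMap_apply]
  have hKc : ∀ c, (K ^ c).map (algebraMap C Ch) = KH ^ c := fun c => by rw [Ideal.map_pow, hKH]
  have hsol : ∀ c, IsSolMod J (KH ^ c) (y c) := fun c f hf => by
    refine (Ideal.map_le_iff_le_comap.2 (fun f₀ hf₀ => ?_) :
      J ≤ (KH ^ c).comap (aeval (y c) : MvPolynomial (Fin n) Ch →ₐ[Ch] Ch).toRingHom) hf
    rw [Ideal.mem_comap, Ideal.mem_comap]
    show aeval (y c) (MvPolynomial.map h f₀) ∈ KH ^ c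
    rw [hcomm, hycz, ← hKc]
    refine Ideal.mem_map_of_mem _ (Ideal.Quotient.eq_zero_iff_mem.1 ?_)
    rw [← hEq, show q f₀ = 0 from hf₀, map_zero]
  have hcompat : ∀ {c d : ℕ}, c ≤ d → ∀ i, y d i - y c i ∈ KH ^ c := fun {c d} hcd i => by
    have h1 := (w (q (X i))).2 hcd
    rw [show (w (q (X i))).val d = Submodule.Quotient.mk (z d i) from hz d i,
      show (w (q (X i))).val c = Submodule.Quotient.mk (z c i) from hz c i] at h1
    have h2 : z d i - z c i ∈ (K ^ c • ⊤ : Submodule C C) := (Submodule.Quotient.eq _).1 h1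
    rw [Ideal.smul_eq_mul, Ideal.mul_top] at h2
    show algebraMap C Ch (z d i) - algebraMap C Ch (z c i) ∈ _
    rw [← map_sub, ← hKc]
    exact Ideal.mem_map_of_mem _ h2
  obtain ⟨s, hs⟩ := IsNoetherian.noetherian I
  let sH := s.image h
  have hsH : Ideal.span (sH : Set Ch) = KH := by
    show _ = Ideal.map h I
    rw [← hs, Ideal.map_span, Finset.coe_image]
  have hdata : ∀ a ∈ sH, HasData J a := fun a ha => by
    obtain ⟨a₀, ha₀, rfl⟩ := Finset.mem_image.1 ha
    haveI := hB a₀ (hs ▸ Ideal.subset_span ha₀)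
    exact (hasData_of_etale q hq a₀).map h
  have hl : Ideal.span {x | x ∈ sH.toList} = KH := by
    rw [← hsH]
    exact congrArg Ideal.span (Set.ext fun x => by simp)
  have happ : ∀ N : ℕ, ∃ x : Fin n → Ch, IsSolMod J ⊥ x ∧ ∀ i, x i - y N i ∈ KH ^ N := fun N => by
    obtain ⟨c, hNc, hc⟩ := exists_approx_list sH.toList.length Ch sH.toList rfl (hl.symm ▸ hhens) J
      (fun a ha => hdata a (Finset.mem_toList.1 ha)) N
    rw [hl] at hc
    obtain ⟨x, hx, hxy⟩ := hc (y c) (hsol c)
    refine ⟨x, hx, fun i => ?_⟩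
    have := add_mem (hxy i) (hcompat hNc i)
    rwa [sub_add_sub_cancel] at this
  choose x hx hxy using happ
  obtain ⟨N₀, hN₀⟩ := exists_rigidity sH hsH hdata
  have hxx : ∀ N, N₀ ≤ N → x N = x N₀ := fun N hN => hN₀ _ _ (hx N) (hx N₀) fun i => by
    have h1 := sub_mem (add_mem (Ideal.pow_le_pow_right hN (hxy N i)) (hcompat hN i)) (hxy N₀ i)
    have h2 : x N i - y N i + (y N i - y N₀ i) - (x N₀ i - y N₀ i) = x N i - x N₀ i := by ring
    rwa [h2] at h1
  have hxy' : ∀ N i, x N₀ i - y N i ∈ KH ^ N := fun N i => by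
    have h1 := add_mem (Ideal.pow_le_pow_right (le_max_left N N₀) (hxy (max N N₀) i)) (hcompat (le_max_left N N₀) i)
    rw [sub_add_sub_cancel, hxx _ (le_max_right N N₀)] at h1
    exact h1
  have hker : ∀ f ∈ RingHom.ker q, (aeval (x N₀) : MvPolynomial (Fin n) A →ₐ[A] Ch) f = 0 := fun f hf => by
    rw [← hcomm]
    exact Ideal.mem_bot.1 (hx N₀ _ (Ideal.mem_map_of_mem _ hf))
  let ψ : B →ₐ[A] Ch := (Ideal.Quotient.liftₐ _ (aeval (x N₀)) hker).comp
    (Ideal.quotientKerAlgEquivOfSurjective hq).symm.toAlgHom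
  have hψ : ∀ f, ψ (q f) = aeval (x N₀) f := fun f => by
    have h1 : (Ideal.quotientKerAlgEquivOfSurjective hq).symm (q f) = Ideal.Quotient.mk _ f :=
      (AlgEquiv.symm_apply_eq _).2 rfl
    show Ideal.Quotient.liftₐ _ (aeval (x N₀)) hker ((Ideal.quotientKerAlgEquivOfSurjective hq).symm (q f)) = _
    rw [h1]
    rfl
  refine ⟨ψ, fun c b => ?_, fun ψ' hψ' => AlgHom.ext fun b => ?_⟩
  · obtain ⟨f, rfl⟩ := hq b
    refine ⟨aeval (z c) f, ?_, (hev c (q f) _).2 (hEq c f)⟩
    rw [hψ, ← hycz, ← hcomm, ← hcomm]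
    exact eval_sub_mem _ _ _ (hxy' c) _
  · obtain ⟨f, rfl⟩ := hq b
    rw [hψ, ← sub_eq_zero, ← Ideal.mem_bot,
      ← Ideal.iInf_pow_smul_eq_bot_of_le_jacobson (R := Ch) (M := Ch) KH HenselianRing.jac, Submodule.mem_iInf]
    intro c
    rw [Ideal.smul_eq_mul, Ideal.mul_top]
    obtain ⟨d, hd, hd'⟩ := hψ' c (q f)
    have h1 : d - aeval (z c) f ∈ K ^ c := Ideal.Quotient.eq.1 (((hev c (q f) d).1 hd').symm.trans (hEq c f))
    have h2 := Ideal.mem_map_of_mem (algebraMap C Ch) h1
    rw [hKc, map_sub, ← hycz] at h2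
    have h3 := eval_sub_mem _ _ _ (hxy' c) (MvPolynomial.map h f)
    rw [hcomm, hcomm] at h3
    have h4 := sub_mem (add_mem hd h2) h3
    have h5 : ψ' (q f) - algebraMap C Ch d + (algebraMap C Ch d - aeval (y c) f) - (aeval (x N₀) f - aeval (y c) f) =
        ψ' (q f) - aeval (x N₀) f := by ring
    rwa [h5] at h4

end EtOutsideLib
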