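import Groth.Agent.EtOutsideLib.Data
import Groth.Agent.HenselLib.Perm
import Mathlib.RingTheory.Filtration
import Mathlib.RingTheory.Nakayama
import Mathlib.RingTheory.Finiteness.Ideal

/-! Elkik approximation for algebras étale outside the closed subset. -/

set_option autoImplicit false
set_option linter.style.haveILetI false
set_option maxHeartbeats 1600000
universe u

open MvPolynomial

namespace EtOutsideLib

variable {R : Type u} [CommRing R] {n : ℕ}

/-- `y` solves `J` modulo `K`. -/
def IsSolMod (J : Ideal (MvPolynomial (Fin n) R)) (K : Ideal R) (y : Fin n → R) : Prop :=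
  ∀ f ∈ J, aeval y f ∈ K

theorem eval_sub_mem (K : Ideal R) (x y : Fin n → R) (h : ∀ i, x i - y i ∈ K) (f : MvPolynomial (Fin n) R) :
    aeval x f - aeval y f ∈ K := by
  refine Ideal.Quotient.eq.1 ?_
  have : (Ideal.Quotient.mkₐ R K).comp (aeval x) = (Ideal.Quotient.mkₐ R K).comp (aeval y) :=
    MvPolynomial.algHom_ext fun i => by
      simp only [AlgHom.comp_apply, aeval_X]
      exact Ideal.Quotient.eq.2 (h i)
  exact DFunLike.congr_fun this f

theorem eval_zero_of_mem_sq {q : MvPolynomial (Fin n) R}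
    (hq : q ∈ (Ideal.span (Set.range (X : Fin n → MvPolynomial (Fin n) R))) * Ideal.span (Set.range X)) :
    eval (0 : Fin n → R) q = 0 ∧ ∀ t, eval (0 : Fin n → R) (pderiv t q) = 0 := by
  have h0 : ∀ u ∈ Ideal.span (Set.range (X : Fin n → MvPolynomial (Fin n) R)), eval (0 : Fin n → R) u = 0 := fun u hu => by
    refine (Ideal.span_le.2 ?_ : _ ≤ RingHom.ker (eval (0 : Fin n → R))) hu
    rintro _ ⟨i, rfl⟩
    simp [RingHom.mem_ker]
  refine Submodule.mul_induction_on hq (fun u hu v hv => ⟨by rw [map_mul, h0 u hu, zero_mul], fun t => ?_⟩)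
    fun u v hu hv => ⟨by rw [map_add, hu.1, hv.1, add_zero], fun t => by rw [map_add, map_add, hu.2 t, hv.2 t, add_zero]⟩
  rw [pderiv_mul, map_add, map_mul, map_mul, h0 u hu, h0 v hv, mul_zero, zero_mul, add_zero]

theorem exists_taylor (y : Fin n → R) (h : R) (p : MvPolynomial (Fin n) R) :
    ∃ q ∈ Ideal.span (Set.range (X : Fin n → MvPolynomial (Fin n) R)) * Ideal.span (Set.range X),
      aeval (fun i => C (y i) + C h * X i) p =
        C (aeval y p) + C h * (∑ t, C (aeval y (pderiv t p)) * X t) + C h ^ 2 * q := by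
  let φ : MvPolynomial (Fin n) R →ₐ[R] MvPolynomial (Fin n) R := (Algebra.ofId R _).comp (aeval y)
  let φ' : MvPolynomial (Fin n) R →ₐ[R] MvPolynomial (Fin n) R := aeval fun i => C (y i) + C h * X i
  let XX := Ideal.span (Set.range (X : Fin n → MvPolynomial (Fin n) R))
  have hφ : ∀ p, φ p = C (aeval y p) := fun _ => rfl
  have hd : ∀ s, φ' (X s) - φ (X s) = C h * X s := fun s => by
    rw [hφ]; simp [φ']
  have h1 := taylor_sq φ φ' (Ideal.span {C h} * XX) (fun s => by
    rw [hd]; exact Ideal.mul_mem_mul (Ideal.mem_span_singleton_self _) (Ideal.subset_span ⟨s, rfl⟩)) p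
  rw [mul_mul_mul_comm, Ideal.span_singleton_mul_span_singleton, ← sq] at h1
  obtain ⟨q, hq, hq'⟩ := Ideal.mem_span_singleton_mul.1 h1
  refine ⟨q, hq, ?_⟩
  rw [show aeval (fun i => C (y i) + C h * X i) p = φ' p from rfl, hq', Finset.mul_sum]
  simp only [hd]
  simp only [hφ]
  have : ∀ t : Fin n, C (aeval y (pderiv t p)) * (C h * X t) = C h * (C (aeval y (pderiv t p)) * X t) := fun t => by ring
  simp only [this]
  ring

variable [IsNoetherianRing R]

/-- The Newton step along one element. -/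
theorem exists_newton {I : Ideal R} [HenselianRing R I] {a : R} (ha : a ∈ I) {J : Ideal (MvPolynomial (Fin n) R)}
    (hd : HasData J a) : ∃ M₀ k : ℕ, k ≤ M₀ ∧ ∀ M, M₀ ≤ M → ∀ y : Fin n → R, IsSolMod J (Ideal.span {a ^ M}) y →
      ∃ x : Fin n → R, IsSolMod J ⊥ x ∧ ∀ i, x i - y i ∈ Ideal.span {a ^ (M - k)} := by
  obtain ⟨k, l, g, hg, hdg, hl⟩ := hd
  obtain ⟨p₀, hp₀⟩ := monotone_stabilizes_iff_noetherian.2 (inferInstance : IsNoetherian R R)
    ⟨fun p => LinearMap.ker (LinearMap.lsmul R R (a ^ p)), fun p q hpq x hx => by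
      obtain ⟨d, rfl⟩ := Nat.exists_eq_add_of_le hpq
      simp only [LinearMap.mem_ker, LinearMap.lsmul_apply, smul_eq_mul] at hx ⊢
      rw [pow_add, mul_comm (a ^ p), mul_assoc, hx, mul_zero]⟩
  refine ⟨2 * k + 1 + p₀ + l + k, k, by omega, fun M hM y hy => ?_⟩
  let h := a ^ k
  have hsplit : ∀ z : R, z ∈ Ideal.span {a ^ M} → ∃ v ∈ Ideal.span {a ^ (M - k)}, z = h * v := fun z hz => by
    obtain ⟨w, rfl⟩ := Ideal.mem_span_singleton'.1 hz
    refine ⟨w * a ^ (M - k), Ideal.mul_mem_left _ _ (Ideal.mem_span_singleton_self _), ?_⟩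
    show w * a ^ M = a ^ k * (w * a ^ (M - k))
    rw [mul_left_comm, ← pow_add, show k + (M - k) = M by omega]
  have hsplit2 : ∀ i, ∃ c ∈ Ideal.span {a ^ (M - 2 * k)}, aeval y (g i) = h ^ 2 * c := fun i => by
    obtain ⟨w, hw⟩ := Ideal.mem_span_singleton'.1 (hy _ (hg i))
    refine ⟨w * a ^ (M - 2 * k), Ideal.mul_mem_left _ _ (Ideal.mem_span_singleton_self _), ?_⟩
    rw [← hw]
    show w * a ^ M = (a ^ k) ^ 2 * (w * a ^ (M - 2 * k))
    conv_lhs => rw [show M = k * 2 + (M - 2 * k) by omega, pow_add, pow_mul]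
    ring
  choose c hc hgc using hsplit2
  have hjac : ∀ i t, ∃ v ∈ Ideal.span {a ^ (M - k)}, aeval y (pderiv t (g i)) = (if i = t then h else 0) + h * v :=
    fun i t => by
      obtain ⟨v, hv, hv'⟩ := hsplit _ (hy _ (hdg i t))
      refine ⟨v, hv, ?_⟩
      rw [← hv']
      split_ifs <;> simp [h]
  choose v hv hvv using hjac
  choose q hq hqq using fun i => exists_taylor y h (g i)
  let P : Fin n → MvPolynomial (Fin n) R := fun i => C (c i) + X i + (∑ t, C (v i t) * X t) + q i
  have hP : ∀ i, aeval (fun j => C (y j) + C h * X j) (g i) = C (h ^ 2) * P i := fun i => by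
    have e1 : ∑ t, C (if i = t then h else 0) * (X t : MvPolynomial (Fin n) R) = C h * X i := by
      rw [Finset.sum_eq_single i (fun b _ hb => by simp [Ne.symm hb]) (fun hi => absurd (Finset.mem_univ i) hi)]
      simp
    have e2 : ∑ t, C (h * v i t) * (X t : MvPolynomial (Fin n) R) = C h * ∑ t, C (v i t) * X t := by
      rw [Finset.mul_sum]; exact Finset.sum_congr rfl fun t _ => by rw [map_mul, mul_assoc]
    rw [hqq, hgc]
    simp only [hvv, map_add (C : R →+* MvPolynomial (Fin n) R), add_mul, Finset.sum_add_distrib, e1, e2]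
    simp only [P, map_mul, map_pow, map_add]
    ring
  let I' := Ideal.span {a ^ (M - 2 * k)}
  haveI : HenselianRing R I' := HenselLib.henselianRing_of_le (J := I)
    ((Ideal.span_singleton_le_iff_mem _).2 (I.pow_mem_of_mem ha _ (by omega)))
  have hI' : Ideal.span {a ^ (M - k)} ≤ I' := Ideal.span_singleton_le_span_singleton.2 (pow_dvd_pow a (by omega))
  obtain ⟨z, hz, hzI⟩ := HenselLib.exists_root_system (I := I') P 0 (fun i => by
      have := (eval_zero_of_mem_sq (hq i)).1
      simp only [P, map_add, eval_C, eval_X, map_sum, map_mul, this, Pi.zero_apply, mul_zero, Finset.sum_const_zero, add_zero]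
      exact hc i) (by
      rw [RingHom.map_det, RingHom.map_det]
      have : (Ideal.Quotient.mk I').mapMatrix ((eval (0 : Fin n → R)).mapMatrix (Matrix.of fun i j => pderiv i (P j))) = 1 := by
        ext i j
        have h2 := (eval_zero_of_mem_sq (hq j)).2 i
        simp only [RingHom.mapMatrix_apply, Matrix.map_apply, Matrix.of_apply, P, map_add, pderiv_C, pderiv_X, map_sum,
          pderiv_mul, h2, map_zero, zero_mul, zero_add, add_zero, map_mul, eval_C]
        rw [Finset.sum_eq_single i (fun b _ hb => by simp [Pi.single_eq_of_ne hb]) (fun hi => absurd (Finset.mem_univ i) hi)]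
        rw [Pi.single_eq_same, map_one, map_one, mul_one, Ideal.Quotient.eq_zero_iff_mem.2 (hI' (hv j i)), add_zero]
        by_cases hij : i = j
        · subst hij; simp
        · simp [Matrix.one_apply_ne hij, Pi.single_eq_of_ne (Ne.symm hij)]
      rw [this, Matrix.det_one]; exact isUnit_one)
  let x : Fin n → R := fun i => y i + h * z i
  have hxy : ∀ i, x i - y i ∈ Ideal.span {a ^ (M - k)} := fun i => by
    obtain ⟨w, hw⟩ := Ideal.mem_span_singleton'.1 (show z i ∈ I' by simpa using hzI i)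
    refine Ideal.mem_span_singleton'.2 ⟨w, ?_⟩
    show w * a ^ (M - k) = y i + h * z i - y i
    rw [← hw, show M - k = k + (M - 2 * k) by omega, pow_add]
    ring
  refine ⟨x, ?_, hxy⟩
  have hgx : ∀ i, aeval x (g i) = 0 := fun i => by
    have h1 : (aeval z).comp (aeval fun j => C (y j) + C h * X j) = (aeval x : MvPolynomial (Fin n) R →ₐ[R] R) :=
      MvPolynomial.algHom_ext fun j => by simp [x]
    rw [← h1, AlgHom.comp_apply, hP, map_mul]
    have h2 : aeval z (P i) = eval z (P i) := RingHom.congr_fun (MvPolynomial.coe_aeval_eq_eval z) (P i)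
    rw [h2, hz, mul_zero]
  let F := J.map (aeval x : MvPolynomial (Fin n) R →ₐ[R] R).toRingHom
  have hFle : F ≤ Ideal.span {a ^ (M - k)} := Ideal.map_le_iff_le_comap.2 fun f hf => by
    rw [Ideal.mem_comap]
    show aeval x f ∈ Ideal.span {a ^ (M - k)}
    have h1 := eval_sub_mem _ x y hxy f
    have h2 : aeval y f ∈ Ideal.span {a ^ (M - k)} :=
      Ideal.span_singleton_le_span_singleton.2 (pow_dvd_pow a (Nat.sub_le _ _)) (hy f hf)
    simpa using add_mem h1 h2
  have hlF : Ideal.span {a ^ l} * F ≤ F * F := by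
    have h3 := Ideal.map_mono (f := (aeval x : MvPolynomial (Fin n) R →ₐ[R] R).toRingHom) (Ideal.span_singleton_mul_le_iff.2 hl)
    rw [Ideal.map_sup, Ideal.map_mul, Ideal.map_mul, Ideal.map_span, Ideal.map_span, Set.image_singleton] at h3
    have h4 : Ideal.span ((aeval x : MvPolynomial (Fin n) R →ₐ[R] R).toRingHom '' Set.range g) = ⊥ := by
      rw [Ideal.span_eq_bot]
      rintro _ ⟨_, ⟨i, rfl⟩, rfl⟩
      exact hgx i
    rw [h4, bot_sup_eq, show (aeval x : MvPolynomial (Fin n) R →ₐ[R] R).toRingHom (C a ^ l) = a ^ l from by simp] at h3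
    exact h3
  have hzero : Ideal.span {a ^ l} * F = ⊥ := by
    refine Submodule.eq_bot_of_le_smul_of_le_jacobson_bot (Ideal.span {a}) _ (IsNoetherian.noetherian _) ?_ ?_
    · calc Ideal.span {a ^ l} * F ≤ F * F := hlF
        _ ≤ Ideal.span {a ^ (M - k)} * F := Ideal.mul_mono_left hFle
        _ ≤ Ideal.span {a} * (Ideal.span {a ^ l} * F) := by
          rw [← mul_assoc, Ideal.span_singleton_mul_span_singleton]
          refine Ideal.mul_mono_left (Ideal.span_singleton_le_span_singleton.2 ?_)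
          rw [← pow_succ']
          exact pow_dvd_pow a (by omega)
    · exact (Ideal.span_singleton_le_iff_mem _).2 ha |>.trans HenselianRing.jac
  intro f hf
  obtain ⟨w, hw⟩ := Ideal.mem_span_singleton'.1 (hFle (Ideal.mem_map_of_mem _ hf))
  have h5 : a ^ l * aeval x f = 0 := by
    rw [← Ideal.mem_bot, ← hzero]
    exact Ideal.mul_mem_mul (Ideal.mem_span_singleton_self _) (Ideal.mem_map_of_mem _ hf)
  rw [show aeval x f = w * a ^ (M - k) from hw.symm] at h5 ⊢
  rw [Ideal.mem_bot]
  have h6 : w ∈ LinearMap.ker (LinearMap.lsmul R R (a ^ (l + (M - k)))) := by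
    rw [LinearMap.mem_ker, LinearMap.lsmul_apply, smul_eq_mul, pow_add]
    linear_combination h5
  have h7 : w ∈ LinearMap.ker (LinearMap.lsmul R R (a ^ p₀)) := by
    have := hp₀ (l + (M - k)) (by omega)
    exact (SetLike.ext_iff.1 this w).2 h6
  rw [LinearMap.mem_ker, LinearMap.lsmul_apply, smul_eq_mul] at h7
  rw [show M - k = p₀ + (M - k - p₀) by omega, pow_add]
  linear_combination a ^ (M - k - p₀) * h7

end EtOutsideLib
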