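import Groth.Agent.EtOutsideLib.Newton

/-! Uniform approximation and rigidity of solutions. -/

set_option autoImplicit false
set_option linter.style.haveILetI false
set_option maxHeartbeats 1600000
universe u

open MvPolynomial

namespace EtOutsideLib

theorem exists_approx_list {n : ℕ} : ∀ (len : ℕ) (R : Type u) [CommRing R] [IsNoetherianRing R] (l : List R),
    l.length = len → HenselianRing R (Ideal.span {x | x ∈ l}) → ∀ J : Ideal (MvPolynomial (Fin n) R),
    (∀ a ∈ l, HasData J a) → ∀ N : ℕ, ∃ c, N ≤ c ∧ ∀ y : Fin n → R, IsSolMod J ((Ideal.span {x | x ∈ l}) ^ c) y →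
      ∃ x : Fin n → R, IsSolMod J ⊥ x ∧ ∀ i, x i - y i ∈ (Ideal.span {x | x ∈ l}) ^ N := by
  intro len
  induction len with
  | zero =>
    intro R _ _ l hl _ J _ N
    rw [List.length_eq_zero_iff] at hl
    subst hl
    refine ⟨N + 1, Nat.le_succ N, fun y hy => ⟨y, fun f hf => ?_, fun i => by rw [sub_self]; exact zero_mem _⟩⟩
    have := hy f hf
    rw [show {x : R | x ∈ ([] : List R)} = ∅ by ext; simp, Ideal.span_empty, pow_succ, Ideal.mul_bot] at this
    exact this
  | succ len ih =>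
    intro R _ _ l hl hH J hd N
    obtain ⟨a, t, rfl⟩ := List.exists_cons_of_length_eq_add_one hl
    set I := Ideal.span {x | x ∈ a :: t}
    let I₂ := Ideal.span {x | x ∈ t}
    have hI : I = Ideal.span {a} ⊔ I₂ := by
      rw [← Ideal.span_insert]
      exact congrArg Ideal.span (Set.ext fun x => by simp)
    have haI : a ∈ I := Ideal.subset_span (by simp)
    haveI := hH
    obtain ⟨M₀, k, -, hN⟩ := exists_newton haI (hd a (by simp))
    let M := max M₀ (N + k)
    let π := Ideal.Quotient.mk (Ideal.span {a ^ M})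
    have hπI : Ideal.span {x | x ∈ t.map π} = I₂.map π := by
      rw [Ideal.map_span]
      exact congrArg Ideal.span (Set.ext fun x => by simp)
    haveI : HenselianRing (R ⧸ Ideal.span {a ^ M}) (I.map π) := HenselLib.henselianRing_map_of_isIntegral
    obtain ⟨c', hNc, hc'⟩ := ih (R ⧸ Ideal.span {a ^ M}) (t.map π) (by simpa using hl)
      (HenselLib.henselianRing_of_le (J := I.map π) (by rw [hπI]; exact Ideal.map_mono (hI ▸ le_sup_right)))
      (J.map (MvPolynomial.map π)) (fun b hb => by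
        obtain ⟨a', ha', rfl⟩ := List.mem_map.1 hb
        exact (hd a' (List.mem_cons_of_mem _ ha')).map π) N
    refine ⟨c' + M, le_trans hNc (Nat.le_add_right _ _), fun y hy => ?_⟩
    have hcomm : ∀ (z : Fin n → R) (f : MvPolynomial (Fin n) R),
        aeval (fun i => π (z i)) (MvPolynomial.map π f) = π (aeval z f) := fun z f => by
      have : ((aeval fun i => π (z i) : MvPolynomial (Fin n) (R ⧸ _) →ₐ[_] _).toRingHom).comp (MvPolynomial.map π) =
          π.comp (aeval z : MvPolynomial (Fin n) R →ₐ[R] R).toRingHom :=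
        MvPolynomial.ringHom_ext (fun r => by simp) (fun i => by simp)
      exact RingHom.congr_fun this f
    have hle : I ^ (c' + M) ≤ Ideal.span {a ^ M} ⊔ I₂ ^ c' := by
      rw [hI, Nat.add_comm, ← Ideal.span_singleton_pow]
      exact Ideal.sup_pow_add_le_pow_sup_pow
    obtain ⟨xb, hxb, hxby⟩ := hc' (fun i => π (y i)) (fun f hf => by
      refine (Ideal.map_le_iff_le_comap.2 (fun f₀ hf₀ => ?_) : J.map (MvPolynomial.map π) ≤
        (Ideal.span {x | x ∈ t.map π} ^ c').comap (aeval fun i => π (y i)).toRingHom) hf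
      rw [Ideal.mem_comap, Ideal.mem_comap]
      show aeval (fun i => π (y i)) (MvPolynomial.map π f₀) ∈ _
      rw [hcomm, hπI, ← Ideal.map_pow]
      have := Ideal.mem_map_of_mem π (hle (hy f₀ hf₀))
      rw [Ideal.map_sup, Ideal.map_quotient_self, bot_sup_eq] at this
      exact this)
    choose Y hY using fun i => Ideal.Quotient.mk_surjective (xb i)
    obtain ⟨x, hx, hxY⟩ := hN M (le_max_left _ _) Y (fun f hf => by
      have h1 := hxb _ (Ideal.mem_map_of_mem (MvPolynomial.map π) hf)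
      rw [show xb = fun i => π (Y i) from funext fun i => (hY i).symm, hcomm, Ideal.mem_bot] at h1
      exact Ideal.Quotient.eq_zero_iff_mem.1 h1)
    refine ⟨x, hx, fun i => ?_⟩
    have h1 : Ideal.span {a ^ (M - k)} ≤ I ^ N := (Ideal.span_singleton_le_iff_mem _).2
      (Ideal.pow_le_pow_right (by omega) (Ideal.pow_mem_pow haI (M - k)))
    have h2 : π (Y i - y i) ∈ (I₂ ^ N).map π := by
      rw [Ideal.map_pow, ← hπI, map_sub, show π (Y i) = xb i from hY i]
      exact hxby i
    rw [← Ideal.mem_comap, Ideal.comap_map_of_surjective _ Ideal.Quotient.mk_surjective, ← RingHom.ker_eq_comap_bot,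
      Ideal.mk_ker] at h2
    have h3 : I₂ ^ N ⊔ Ideal.span {a ^ M} ≤ I ^ N := sup_le (Ideal.pow_right_mono (hI ▸ le_sup_right) N)
      ((Ideal.span_singleton_le_iff_mem _).2 (Ideal.pow_le_pow_right (by omega) (Ideal.pow_mem_pow haI M)))
    have := add_mem (h1 (hxY i)) (h3 h2)
    rwa [sub_add_sub_cancel] at this

variable {R : Type u} [CommRing R] [IsNoetherianRing R] {n : ℕ}

/-- Solutions close enough are equal. -/
theorem exists_rigidity {I : Ideal R} [HenselianRing R I] {J : Ideal (MvPolynomial (Fin n) R)}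
    (s : Finset R) (hs : Ideal.span (s : Set R) = I) (hd : ∀ a ∈ s, HasData J a) : ∃ N₀ : ℕ, ∀ x x' : Fin n → R, IsSolMod J ⊥ x → IsSolMod J ⊥ x' →
      (∀ i, x i - x' i ∈ I ^ N₀) → x = x' := by
  classical
  choose k l g hg hdg hl using fun a : s => hd a.1 a.2
  let K := Finset.univ.sup k
  let Lk := Ideal.span (Set.range fun a : s => (a : R) ^ K)
  obtain ⟨c, hc⟩ : ∃ c, I ^ c ≤ Lk := Ideal.exists_pow_le_of_le_radical_of_fg_radical (by
    rw [← hs]
    exact Ideal.span_le.2 fun a ha => ⟨K, Ideal.subset_span ⟨⟨a, ha⟩, rfl⟩⟩) (IsNoetherian.noetherian _)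
  obtain ⟨k₁, hk₁⟩ := Ideal.exists_pow_inf_eq_pow_smul I (M := R) (Submodule.annihilator (I ^ c : Ideal R))
  refine ⟨max (k₁ + c) (c + 1), fun x x' hx hx' hxx' => ?_⟩
  let D := Ideal.span (Set.range fun i => x i - x' i)
  have hD : D ≤ I ^ max (k₁ + c) (c + 1) := Ideal.span_le.2 fun _ ⟨i, hi⟩ => hi ▸ hxx' i
  have hmul : Lk * D ≤ D * D := by
    rw [Ideal.span_mul_span', Ideal.span_le]
    rintro _ ⟨_, ⟨a, rfl⟩, _, ⟨i, rfl⟩, rfl⟩
    obtain ⟨d, hd'⟩ := Nat.exists_eq_add_of_le (Finset.le_sup (f := k) (Finset.mem_univ a))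
    have h1 := taylor_sq (aeval x' : MvPolynomial (Fin n) R →ₐ[R] R) (aeval x) D
      (fun t => by simp only [aeval_X]; exact Ideal.subset_span ⟨t, rfl⟩) (g a i)
    rw [Ideal.mem_bot.1 (hx _ (hg a i)), Ideal.mem_bot.1 (hx' _ (hg a i))] at h1
    have h2 : ∀ t, aeval x' (pderiv t (g a i)) = if i = t then (a : R) ^ k a else 0 := fun t => by
      have h3 := Ideal.mem_bot.1 (hx' _ (hdg a i t))
      rw [map_sub, sub_eq_zero] at h3
      rw [h3]
      split_ifs <;> simp
    simp only [h2, aeval_X, ite_mul, zero_mul, Finset.sum_ite_eq, Finset.mem_univ, if_true, sub_zero, zero_sub] at h1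
    have h4 := (D * D).mul_mem_left ((a : R) ^ d) ((D * D).neg_mem h1)
    show (a : R) ^ K * (x i - x' i) ∈ D * D
    rw [show K = k a + d from hd', pow_add]
    convert h4 using 1
    ring
  have hIcD : I ^ c * D = ⊥ := by
    refine Submodule.eq_bot_of_le_smul_of_le_jacobson_bot I _ (IsNoetherian.noetherian _) ?_ HenselianRing.jac
    calc I ^ c * D ≤ Lk * D := Ideal.mul_mono_left hc
      _ ≤ D * D := hmul
      _ ≤ I ^ (1 + c) * D := Ideal.mul_mono_left (hD.trans (Ideal.pow_le_pow_right (by omega)))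
      _ ≤ I * (I ^ c * D) := by rw [← mul_assoc, pow_add, pow_one]
  funext i
  rw [← sub_eq_zero]
  have hT : x i - x' i ∈ Submodule.annihilator (I ^ c : Ideal R) := Submodule.mem_annihilator.2 fun b hb => by
    rw [smul_eq_mul, mul_comm, ← Ideal.mem_bot, ← hIcD]
    exact Ideal.mul_mem_mul hb (Ideal.subset_span ⟨i, rfl⟩)
  have h5 : x i - x' i ∈ I ^ (k₁ + c) • (⊤ : Submodule R R) ⊓ Submodule.annihilator (I ^ c : Ideal R) := by
    refine ⟨?_, hT⟩
    rw [Ideal.smul_eq_mul, Ideal.mul_top]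
    exact Ideal.pow_le_pow_right (le_max_left _ _) (hxx' i)
  rw [hk₁ _ (Nat.le_add_right _ _), Nat.add_sub_cancel_left] at h5
  refine Submodule.smul_induction_on h5 (fun b hb w hw => ?_) fun u v hu hv => by rw [hu, hv, add_zero]
  rw [smul_eq_mul, mul_comm]
  exact Submodule.mem_annihilator.1 hw.2 b hb

end EtOutsideLib
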